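import Cfsg.Agent.Lib.Sporadic.LyThree.TraceDefs
import Cfsg.Agent.Lib.Sporadic.LyInv.ElData2
import Cfsg.Agent.Lib.Sporadic.LyInv.ElData3
import Cfsg.Agent.Lib.Sporadic.LyInv.ElData4

set_option autoImplicit false
set_option maxRecDepth 20000
set_option Elab.async false

/-! The elements of the class in the small stabilisers (owner: helper25). -/

namespace CfsgLib.Sporadic.LyThree

open CfsgLib.Sporadic.LyInv (elQ2 elQ3 elQ4)

theorem x3_count2 : countX elQ2 6048 = 56 := by decide +kernel

theorem x3_count3 : countX elQ3 1008 = 2 := by decide +kernel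

theorem x3_count4 : countX elQ4 2880 = 20 := by decide +kernel

end CfsgLib.Sporadic.LyThree
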