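import Cfsg.Agent.Lib.Sporadic.LyThree.Defs
import Cfsg.Agent.Lib.Sporadic.LyThree.FixData

set_option autoImplicit false
set_option maxRecDepth 20000
set_option Elab.async false

/-! The element of order three fixes at most 252 of the states (owner: helper25). -/

namespace CfsgLib.Sporadic.LyThree

theorem fix_part0 : countFix fixItems0 0 = 2 ∧ fixItems0.length = 3255 := by decide +kernel

theorem fix_part1 : countFix fixItems1 3255 = 42 ∧ fixItems1.length = 3255 := by decide +kernel

theorem fix_part2 : countFix fixItems2 6510 = 52 ∧ fixItems2.length = 3255 := by decide +kernel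

theorem fix_part3 : countFix fixItems3 9765 = 56 ∧ fixItems3.length = 3255 := by decide +kernel

theorem fix_part4 : countFix fixItems4 13020 = 46 ∧ fixItems4.length = 3255 := by decide +kernel

theorem fix_part5 : countFix fixItems5 16275 = 54 ∧ fixItems5.length = 3255 := by decide +kernel

end CfsgLib.Sporadic.LyThree
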