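import Cfsg.Agent.Lib.Sporadic.LyThree.Rows
import Cfsg.Agent.Lib.Sporadic.LyThree.ProjData
import Cfsg.Agent.Lib.LocalEvenB.McLCover.Data

set_option autoImplicit false
set_option maxRecDepth 100000
set_option maxHeartbeats 0
set_option Elab.async false

/-! The relations of the McLaughlin chain hold in the projection (owner: helper25). -/

namespace CfsgLib.Sporadic.LyThree

open CfsgLib.LocalEvenB.McLCover (chain)

theorem levels_check : levelsOK chain levData = true := by decide +kernel

end CfsgLib.Sporadic.LyThree
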