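import Cfsg.Agent.Lib.LocalEvenB.McLCover.Multiplier

/-!
# Elements satisfying the relations of the McLaughlin chain give a map from the group (owner: helper25)
-/

set_option autoImplicit false
set_option maxRecDepth 100000

namespace CfsgLib.Sporadic.LyThree

open Cfsg CfsgLib.Schur.Cert CfsgLib.Sporadic
open CfsgLib.LocalEvenB.McLCover (G act act_injective chain top rows gA rep_gA size_check perms_check tables_check
  rows_check)

attribute [local instance] CfsgLib.LocalEvenB.McLCover.finite_G

theorem top_getD {j : ℕ} (hj : j < 2) : top.getD j [] = [(j, true)] := by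
  interval_cases j <;> rfl

theorem top_length : top.length = 2 := rfl

theorem wval_top {H : Type*} [Group H] (a : ℕ → H) {j : ℕ} (hj : j < 2) : wval a (top.getD j []) = a j := by
  rw [top_getD hj]; simp [wval, lett]

theorem gA_rels_gen : (∀ w ∈ chainRels chain top, wval gA w = 1) ∧
    Subgroup.closure (gA '' Set.Iio 2) = ⊤ := by
  obtain ⟨hlen, -, hsize, -⟩ := size_check
  obtain ⟨h1, h2⟩ := chain_permsN act act_injective gA chain top perms_check
    (by rw [hlen, top_length]) fun j hj => by
      rw [wval_top gA hj]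
      exact rep_gA j hj
  refine ⟨h1, Subgroup.eq_top_of_le_card _ ?_⟩
  rw [Conway.card_fix_mcl, ← hsize]
  have e : (fun j => wval gA (top.getD j [])) '' Set.Iio top.length = gA '' Set.Iio 2 := by
    rw [top_length]; exact Set.image_congr fun j hj => wval_top gA hj
  rwa [e] at h2

/-- A bound for finite groups generated by elements satisfying the relations. -/
theorem card_le_of_rels {H : Type*} [Group H] [Finite H] (a : ℕ → H)
    (hrels : ∀ w ∈ chainRels chain top, wval a w = 1) (hgen : Subgroup.closure (a '' Set.Iio 2) = ⊤) :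
    Nat.card H ≤ chainSize chain := by
  classical
  obtain ⟨F⟩ := CfsgLib.Schur.Cert.exists_frame (MonoidHom.id H) Function.surjective_id
    (by rw [(MonoidHom.ker_eq_bot_iff _).2 Function.injective_id]; exact bot_le) a _ hrels
  have htab := tables_check
  rw [rows_check.1] at htab
  obtain ⟨⟨elt, pot, hN, he, -, hstep⟩, -⟩ := chain_sound F chain top htab
  have hE : ∀ v, F.E v = 1 := F.ker
  have hb : ∀ j, F.b j = a j := F.lift
  have hstep' : ∀ i < chainSize chain, ∀ j < 2, ∀ s : Bool, ∃ i' < chainSize chain,
      elt i * (bif s then a j else (a j)⁻¹) = elt i' := by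
    intro i hi j hj s
    obtain ⟨h1, h2, -⟩ := hstep i hi (j, s) (by rw [size_check.2.1]; exact hj)
    refine ⟨_, h1, ?_⟩
    rw [hE, mul_one] at h2
    rw [← h2, lett]
    dsimp only
    rw [wval_top F.b hj, hb]
  have hmem : ∀ g : H, ∃ i < chainSize chain, g = elt i := by
    intro g
    have hg : g ∈ Subgroup.closure (a '' Set.Iio 2) := hgen ▸ Subgroup.mem_top g
    induction hg using Subgroup.closure_induction_right with
    | one => exact ⟨0, hN, he.symm⟩
    | mul_right x _ y hy ih =>
      obtain ⟨j, hj, rfl⟩ := hy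
      obtain ⟨i, hi, rfl⟩ := ih
      exact hstep' i hi j hj true
    | mul_inv_cancel x _ y hy ih =>
      obtain ⟨j, hj, rfl⟩ := hy
      obtain ⟨i, hi, rfl⟩ := ih
      exact hstep' i hi j hj false
  choose idx hidx hval using hmem
  refine le_trans (Nat.card_le_card_of_injective (fun g => (⟨idx g, hidx g⟩ : Fin (chainSize chain))) ?_) (by simp)
  intro x y h
  rw [hval x, hval y, show idx x = idx y from congrArg Fin.val h]

/-- The map from the McLaughlin group. -/
theorem exists_hom {Q : Type*} [Group Q] [Finite Q] (q : ℕ → Q) (hrels : ∀ w ∈ chainRels chain top, wval q w = 1) :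
    ∃ φ : ↥G →* Q, ∀ j < 2, φ (gA j) = q j := by
  classical
  obtain ⟨hG, hgenG⟩ := gA_rels_gen
  let P : ℕ → ↥G × Q := fun j => (gA j, q j)
  let K : Subgroup (↥G × Q) := Subgroup.closure (P '' Set.Iio 2)
  let a : ℕ → K := fun j => if h : j < 2 then ⟨P j, Subgroup.subset_closure ⟨j, h, rfl⟩⟩ else 1
  have ha : ∀ j < 2, (a j : ↥G × Q) = P j := fun j h => by simp only [a, dif_pos h]
  have hwlt : ∀ w ∈ chainRels chain top, ∀ l ∈ w, l.1 < 2 := by
    have h : (chainRels chain top).all (fun w => w.all fun l => Nat.blt l.1 2) = true := by decide +kernel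
    simpa [List.all_eq_true] using h
  have hrelsK : ∀ w ∈ chainRels chain top, wval a w = 1 := by
    intro w hw
    refine Subtype.ext (Prod.ext ?_ ?_)
    · show ((MonoidHom.fst ↥G Q).comp K.subtype) (wval a w) = 1
      rw [map_wval]
      refine Eq.trans ?_ (hG w hw)
      exact congrArg List.prod (List.map_congr_left fun l hl => by simp [lett, ha _ (hwlt w hw l hl), P])
    · show ((MonoidHom.snd ↥G Q).comp K.subtype) (wval a w) = 1
      rw [map_wval]
      refine Eq.trans ?_ (hrels w hw)
      exact congrArg List.prod (List.map_congr_left fun l hl => by simp [lett, ha _ (hwlt w hw l hl), P])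
  have hgenK : Subgroup.closure (a '' Set.Iio 2) = ⊤ := by
    refine Subgroup.map_injective K.subtype_injective ?_
    rw [MonoidHom.map_closure, ← MonoidHom.range_eq_map, Subgroup.range_subtype, ← Set.image_comp]
    exact congrArg Subgroup.closure (Set.image_congr fun j hj => ha j hj)
  let π : K →* ↥G := (MonoidHom.fst ↥G Q).comp K.subtype
  have hsurj : Function.Surjective π := by
    rw [← MonoidHom.range_eq_top, eq_top_iff, ← hgenG, Subgroup.closure_le]
    rintro _ ⟨j, hj, rfl⟩
    exact ⟨a j, by simp [π, ha j hj, P]⟩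
  have hbij : Function.Bijective π := by
    refine ⟨?_, hsurj⟩
    exact ((Nat.bijective_iff_surjective_and_card π).2 ⟨hsurj, le_antisymm
      (by rw [Conway.card_fix_mcl, ← size_check.2.2.1]; exact card_le_of_rels a hrelsK hgenK)
      (Nat.card_le_card_of_surjective π hsurj)⟩).1
  refine ⟨((MonoidHom.snd ↥G Q).comp K.subtype).comp (MulEquiv.ofBijective π hbij).symm.toMonoidHom, fun j hj => ?_⟩
  have e : (MulEquiv.ofBijective π hbij).symm (gA j) = a j := by
    rw [MulEquiv.symm_apply_eq]
    simp [π, ha j hj, P]
  simp [e, ha j hj, P]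

end CfsgLib.Sporadic.LyThree
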