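import Cfsg.Agent.Lib.Sporadic.LyThree.Proj
import Cfsg.Agent.Lib.Sporadic.LyThree.LevelsCheck
import Cfsg.Agent.Lib.Sporadic.LyThree.McLGraph

/-!
# The centraliser of an element of order three in the Lyons group is 3.McL (owner: helper25)
-/

set_option autoImplicit false
set_option maxRecDepth 100000

namespace CfsgLib.Sporadic.LyThree

open Cfsg CfsgLib.Sporadic CfsgLib.Schur.Cert
open CfsgLib.LocalEvenB.McLCover (G gA chain top)

theorem qG_repGens : RepGens [gen0_0, gen0_1] [inv0_0, inv0_1] qG := by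
  intro j hj
  simp only [List.length_cons, List.length_nil] at hj
  obtain ⟨a0, a1, b0, b1, c0, c1⟩ := base_gens
  have key : ∀ {C Ci : List (ℕ × ℕ)} {u : Gm}, repOK 21 21 C = true → repOK 21 21 Ci = true →
      (∀ k : Fin 21, LyRep.red mask21 (LyLower.rdot Ci (C.getD k.val (0, 0)).1) = Nat.shiftLeft 1 (24 * k.val)) →
      (u : LyRep.Mat 21) = matR 21 21 C → RepR C (u : LyRep.Mat 21) ∧ RepR Ci ((u⁻¹ : Gm) : LyRep.Mat 21) := by
    intro C Ci u hC hCi hinv hu
    refine ⟨hu ▸ repOK_sound hC, ?_⟩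
    have e2 : matR 21 21 C * matR 21 21 Ci = 1 := ext_rows fun k => by
      have h1 := hinv k
      rw [row_getD (repOK_sound hC) k, rowMul_eq mask21_eq (by norm_num) (repOK_sound hCi), ← unit21_enc] at h1
      rw [← Matrix.vecMul_vecMul, Matrix.single_one_vecMul, Matrix.vecMul_one]
      exact h1
    rw [← hu] at e2
    rw [Units.inv_eq_of_mul_eq_one_right e2]
    exact repOK_sound hCi
  interval_cases j
  · exact key a0 b0 c0 (qG_val (by norm_num))
  · exact key a1 b1 c1 (qG_val (by norm_num))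

theorem qG_rels : ∀ w ∈ chainRels chain top, wval qG w = 1 := by
  refine levels_sound chain levData qG top levels_check ?_
  show RepGens [gen0_0, gen0_1] [inv0_0, inv0_1] fun j => wval qG (top.getD j [])
  intro j hj
  have h := qG_repGens j hj
  simp only [List.length_cons, List.length_nil] at hj
  dsimp only
  rwa [wval_top qG hj]

theorem qG_noncomm : qG 0 * qG 1 ≠ qG 1 * qG 0 := by
  intro h
  obtain ⟨k, hk⟩ := base_noncomm
  refine hk ?_
  rw [← unit21_enc, rword_eq qG_repGens (by simp), rword_eq qG_repGens (by simp)]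
  simp [wval, lett, h]

theorem three_mcl : orderOf xG = 3 ∧ Nat.card (Subgroup.center CG) = 3 ∧ IsMcL (CG ⧸ Subgroup.center CG) := by
  classical
  have := LyInv.finite_Ly
  have hsimple : IsSimpleGroup ↥G := Conway.simple_mcl
  have hxne : xG ≠ 1 := fun h => by
    have h1 : xN = 1 := LyGTwo.toLy_injective (h.trans (map_one LyGTwo.toLy).symm)
    have h2 := trace_xN
    rw [h1, LyInv.Mg, map_one, Units.val_one, Matrix.trace_one, Fintype.card_fin] at h2
    exact absurd h2 (by decide)
  have hx3 : xG * xG * xG = 1 := by rw [xG, ← map_mul, ← map_mul, xN_cube, map_one]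
  have hord : orderOf xG = 3 := orderOf_eq_prime (by rw [pow_succ, pow_two, hx3]) hxne
  refine ⟨hord, ?_⟩
  obtain ⟨φ, hφ⟩ := exists_hom (Q := Gm) qG qG_rels
  have hinj : Function.Injective φ := by
    refine (MonoidHom.ker_eq_bot_iff φ).1 ((φ.normal_ker.eq_bot_or_eq_top).resolve_right fun h => qG_noncomm ?_)
    rw [← hφ 0 (by norm_num), MonoidHom.mem_ker.1 (h ▸ Subgroup.mem_top (gA 0) : gA 0 ∈ φ.ker), one_mul, mul_one]
  have hrange : φ.range ≤ proj.range := by
    rw [MonoidHom.range_eq_map, ← gA_rels_gen.2, MonoidHom.map_closure, Subgroup.closure_le]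
    rintro _ ⟨_, ⟨j, hj, rfl⟩, rfl⟩
    rw [SetLike.mem_coe, hφ j hj, qG, dif_pos (show j < 2 from hj)]
    exact ⟨_, rfl⟩
  let Z : Subgroup CG := Subgroup.zpowers ⟨xG, xG_mem⟩
  have hZle : Z ≤ proj.ker := Subgroup.zpowers_le.2 proj_xG
  have hZc : Nat.card Z = 3 := by rw [Nat.card_zpowers, ← Subgroup.orderOf_coe, hord]
  have hrc : 898128000 ≤ Nat.card proj.range := by
    rw [← Conway.card_fix_mcl, Nat.card_congr (MonoidHom.ofInjective hinj).toEquiv]
    exact Subgroup.card_le_of_le hrange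
  have hker3 : 3 ≤ Nat.card proj.ker := hZc ▸ Subgroup.card_le_of_le hZle
  have hmul : Nat.card CG = Nat.card proj.range * Nat.card proj.ker := by
    rw [Subgroup.card_eq_card_quotient_mul_card_subgroup proj.ker,
      Nat.card_congr (QuotientGroup.quotientKerEquivRange proj).toEquiv]
  have hle := card_CG_le
  have hr' : Nat.card proj.range = 898128000 := by nlinarith
  have hk' : Nat.card proj.ker = 3 := by nlinarith
  have hZk : Z = proj.ker := Subgroup.eq_of_le_of_card_ge hZle (by rw [hk', hZc])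
  have heq : φ.range = proj.range := Subgroup.eq_of_le_of_card_ge hrange (by
    rw [hr', ← Nat.card_congr (MonoidHom.ofInjective hinj).toEquiv, Conway.card_fix_mcl])
  let e : CG ⧸ proj.ker ≃* ↥G := ((QuotientGroup.quotientKerEquivRange proj).trans
    (MulEquiv.subgroupCongr heq.symm)).trans (MonoidHom.ofInjective hinj).symm
  have hG1 : Subgroup.center ↥G = ⊥ := by
    refine ((Subgroup.center ↥G).normal_of_characteristic.eq_bot_or_eq_top).resolve_right fun h => qG_noncomm ?_
    have hc : gA 1 * gA 0 = gA 0 * gA 1 := (Subgroup.mem_center_iff.1 (h ▸ Subgroup.mem_top (gA 0))) (gA 1)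
    rw [← hφ 0 (by norm_num), ← hφ 1 (by norm_num), ← map_mul, ← map_mul, hc]
  have hcen : Subgroup.center CG = proj.ker := by
    refine le_antisymm (fun c hc => ?_) (hZk ▸ Subgroup.zpowers_le.2 (Subgroup.mem_center_iff.2 fun d =>
      Subtype.ext (mem_CG.1 d.2).symm))
    rw [← QuotientGroup.eq_one_iff]
    refine e.injective ?_
    rw [map_one, ← Subgroup.mem_bot, ← hG1, Subgroup.mem_center_iff]
    intro g
    obtain ⟨d, rfl⟩ := e.surjective g
    obtain ⟨d, rfl⟩ := QuotientGroup.mk_surjective d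
    rw [← map_mul, ← map_mul, ← QuotientGroup.mk_mul, ← QuotientGroup.mk_mul, Subgroup.mem_center_iff.1 hc d]
  refine ⟨by rw [hcen, hk'], ?_⟩
  let e' : CG ⧸ Subgroup.center CG ≃* ↥G := (QuotientGroup.quotientMulEquivOfEq hcen).trans e
  exact ⟨(MulEquiv.isSimpleGroup_congr e').2 hsimple, by rw [Nat.card_congr e'.toEquiv, Conway.card_fix_mcl]⟩

end CfsgLib.Sporadic.LyThree
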