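import Cfsg.Agent.Lib.Sporadic.LyThree.ProjCheck
import Cfsg.Agent.Lib.Sporadic.LyThree.Count
import Cfsg.Agent.Lib.Sporadic.LyInv.Action

/-!
# The centraliser projects to the fixed space (owner: helper25)
-/

set_option autoImplicit false
set_option maxRecDepth 20000

namespace CfsgLib.Sporadic.LyThree

open Cfsg CfsgLib.Sporadic CfsgLib.Sporadic.LyGTwo CfsgLib.Sporadic.LyCoset
open CfsgLib.Sporadic.LyRep (rho Mat maskLit maskLit_eq packF red_packF packF_add packF_smul)
open CfsgLib.Sporadic.LyLower (uw gw dword encCol unit_enc rho_word)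
open CfsgLib.Sporadic.LyInv (DenseN eqN' eqN'_sound dwordN_eq rho_injective)
open scoped Matrix

theorem cenD_ok : DenseN cenW cenD 3 := by
  intro i hi
  interval_cases i
  · exact LyLower.denseOK_sound cenDense0
  · exact LyLower.denseOK_sound cenDense1
  · exact LyLower.denseOK_sound cenDense2

/-- The two elements and the element of order three. -/
noncomputable def cG (i : ℕ) : Spor.Ly := ev (cenW.getD i [])

theorem cenW_small : ∀ i : Fin 3, ∀ x ∈ cenW.getD i.val [], x < 10 := by decide +kernel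

theorem rho_cG_prod {u : List ℕ} (hu : ∀ i ∈ u, i < 3) : rho (u.map cG).prod = gw cenW u := by
  rw [map_list_prod, List.map_map, gw]
  exact congrArg List.prod (List.map_congr_left fun i hi => rho_word (cenW_small ⟨i, hu i hi⟩))

theorem rel_cG {u v : List ℕ} (h : eqN' cenD 3 u v = true) : (u.map cG).prod = (v.map cG).prod := by
  have he := eqN'_sound cenD_ok h
  simp only [eqN', Bool.and_eq_true, List.all_eq_true, Nat.blt_eq] at h
  exact rho_injective (by rw [rho_cG_prod h.1, rho_cG_prod h.2.1, he])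

theorem cG_two : cG 2 = xG := by
  rw [xG, xN, toLy_pw (by decide +kernel)]
  exact congrArg ev (show cenW.getD 2 [] = xW by decide +kernel)

theorem cG_mem {j : ℕ} (hj : j < 2) : cG j ∈ CG := by
  have h0 := rel_cG cen_comm.1
  have h1 := rel_cG cen_comm.2.1
  simp only [List.map_cons, List.map_nil, List.prod_cons, List.prod_nil, mul_one, cG_two] at h0 h1
  rw [mem_CG]
  interval_cases j
  exacts [h0, h1]

/-- The matrix of an element. -/
noncomputable def rM (g : Spor.Ly) : Mat 111 := ((rho g : (Mat 111)ˣ) : Mat 111)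

/-- The basis of the fixed space. -/
noncomputable def Bm : Matrix (Fin 21) (Fin 111) (ZMod 5) := matR 21 111 projB

/-- Its one-sided inverse. -/
noncomputable def Cm : Matrix (Fin 111) (Fin 21) (ZMod 5) := matR 111 21 projC

/-- The idempotent. -/
noncomputable def Pm : Mat 111 := (2 : ZMod 5) • (1 + rM xG + rM xG * rM xG)

theorem repB : RepR projB Bm := repOK_sound proj_shape.1

theorem repC : RepR projC Cm := repOK_sound proj_shape.2

theorem dword_cG {u : List ℕ} (hu : ∀ i ∈ u, i < 3) (v : Fin 111 → ZMod 5) :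
    dword cenD u (encCol v) = encCol (v ᵥ* rM (u.map cG).prod) := by
  rw [dwordN_eq cenD_ok hu, rM, rho_cG_prod hu]

theorem unit_encR (k : Fin 111) : encR (Pi.single k 1 : Fin 111 → ZMod 5) = Nat.shiftLeft 1 (24 * k.val) :=
  unit_enc k

theorem Bm_Cm : Bm * Cm = 1 := ext_rows fun k => by
  have h := proj_left k
  rw [row_getD repB k, rowMul_eq mask21_eq (by norm_num) repC] at h
  rw [← Matrix.vecMul_vecMul, Matrix.single_one_vecMul, Matrix.vecMul_one, unit21_enc]
  exact h

theorem Cm_Bm : Cm * Bm = Pm := ext_rows fun k => by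
  have h := proj_idem k
  rw [row_getD repC k, rowMul_eq maskLit_eq (by norm_num) repB, idemRow, ← unit_encR] at h
  rw [← Matrix.vecMul_vecMul, Matrix.single_one_vecMul]
  refine h.trans ?_
  generalize hv : (Pi.single k 1 : Fin 111 → ZMod 5) = v
  have e1 : dword cenD [2] (encR v) = encR (v ᵥ* rM xG) := by
    show dword cenD [2] (encCol v) = encCol _
    rw [dword_cG (by simp), List.map_cons, List.map_nil, List.prod_cons, List.prod_nil, mul_one, cG_two]
  have e2 : dword cenD [2, 2] (encR v) = encR (v ᵥ* (rM xG * rM xG)) := by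
    show dword cenD [2, 2] (encCol v) = encCol _
    rw [dword_cG (by simp), List.map_cons, List.map_cons, List.map_nil, List.prod_cons, List.prod_cons,
      List.prod_nil, mul_one, cG_two, rM, map_mul, Units.val_mul]
    rfl
  rw [e1, e2]
  simp only [encR]
  rw [packF_add, packF_add, packF_smul, maskLit_eq, red_packF _ fun j => ?_]
  · refine congrArg (packF 111) (funext fun j => ?_)
    rw [← ZMod.val_natCast]
    simp only [Pm, Matrix.vecMul_smul, Matrix.vecMul_add, Matrix.vecMul_one, Pi.smul_apply, Pi.add_apply,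
      smul_eq_mul, Nat.cast_mul, Nat.cast_add, ZMod.natCast_zmod_val, Nat.cast_ofNat]
  · have := ZMod.val_lt (v j)
    have := ZMod.val_lt ((v ᵥ* rM xG) j)
    have := ZMod.val_lt ((v ᵥ* (rM xG * rM xG)) j)
    omega

theorem Pm_rM (c : CG) : Pm * rM c.1 = rM c.1 * Pm := by
  have h : rM xG * rM c.1 = rM c.1 * rM xG := by
    rw [rM, rM, ← Units.val_mul, ← map_mul, mem_CG.1 c.2, map_mul, Units.val_mul]
  rw [Pm, Matrix.smul_mul, Matrix.mul_smul, add_mul, add_mul, mul_add, mul_add, one_mul, mul_one, h,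
    mul_assoc (rM xG), h, ← mul_assoc (rM xG), h, mul_assoc]

theorem Bm_Pm : Bm * Pm = Bm := by rw [← Cm_Bm, ← Matrix.mul_assoc, Bm_Cm, Matrix.one_mul]

theorem Bm_rM_xG : Bm * rM xG = Bm := by
  have h3 : rM xG * rM xG * rM xG = 1 := by
    simp only [rM, ← Units.val_mul, ← map_mul]
    rw [xG, ← map_mul, ← map_mul, xN_cube, map_one, map_one, Units.val_one]
  have hP : Pm * rM xG = Pm := by
    rw [Pm, Matrix.smul_mul, add_mul, add_mul, one_mul, h3, add_comm (rM xG + rM xG * rM xG) 1, ← add_assoc]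
  conv_lhs => rw [← Bm_Pm, Matrix.mul_assoc, hP, Bm_Pm]

/-- The projection as a monoid map. -/
noncomputable def projM : CG →* Mat 21 where
  toFun c := Bm * rM c.1 * Cm
  map_one' := by simp [rM, Bm_Cm]
  map_mul' c d := by
    have h : rM (c * d : CG).1 = rM c.1 * rM d.1 := by
      show rM (c.1 * d.1) = _
      rw [rM, map_mul, Units.val_mul]; rfl
    calc Bm * rM (c * d : CG).1 * Cm = Bm * Pm * (rM c.1 * rM d.1) * Cm := by rw [h, Bm_Pm]
      _ = Bm * (Pm * rM c.1) * rM d.1 * Cm := by simp only [Matrix.mul_assoc]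
      _ = Bm * (rM c.1 * (Cm * Bm)) * rM d.1 * Cm := by rw [Pm_rM, Cm_Bm]
      _ = Bm * rM c.1 * Cm * (Bm * rM d.1 * Cm) := by simp only [Matrix.mul_assoc]

/-- The projection. -/
noncomputable def proj : CG →* Gm := projM.toHomUnits

theorem proj_val (c : CG) : ((proj c : Gm) : Mat 21) = Bm * rM c.1 * Cm := rfl

theorem xG_mem : xG ∈ CG := mem_CG.2 rfl

theorem proj_xG : proj ⟨xG, xG_mem⟩ = 1 := Units.ext (by rw [proj_val, Bm_rM_xG, Bm_Cm, Units.val_one])

/-- The images of the two elements. -/
noncomputable def qG (j : ℕ) : Gm := if h : j < 2 then proj ⟨cG j, cG_mem h⟩ else 1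

theorem qG_val {j : ℕ} (hj : j < 2) :
    ((qG j : Gm) : Mat 21) = matR 21 21 (([gen0_0, gen0_1] : List (List (ℕ × ℕ))).getD j []) := by
  obtain ⟨a0, a1, -, -, -, -⟩ := base_gens
  have hrep : repOK 21 21 (([gen0_0, gen0_1] : List (List (ℕ × ℕ))).getD j []) = true := by
    interval_cases j
    exacts [a0, a1]
  refine ext_rows fun k => ?_
  have h := proj_image ⟨j, hj⟩ k
  rw [row_getD repB k, row_getD (repOK_sound hrep) k] at h
  rw [show encR (Bm k) = encCol (Bm k) from rfl, dword_cG (by simp; omega),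
    show encCol (Bm k ᵥ* rM ([j].map cG).prod) = encR (Bm k ᵥ* rM ([j].map cG).prod) from rfl,
    rowMul_eq mask21_eq (by norm_num) repC] at h
  rw [qG, dif_pos hj, proj_val, ← Matrix.vecMul_vecMul, ← Matrix.vecMul_vecMul, Matrix.single_one_vecMul,
    Matrix.single_one_vecMul, Matrix.vecMul_vecMul]
  simp only [List.map_cons, List.map_nil, List.prod_cons, List.prod_nil, mul_one, Matrix.vecMul_vecMul] at h
  exact h

end CfsgLib.Sporadic.LyThree
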