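import Cfsg.Agent.Lib.Sporadic.LyThree.Rows
import Cfsg.Agent.Lib.Sporadic.LyThree.ProjData
import Cfsg.Agent.Lib.Sporadic.LyThree.CenData
import Cfsg.Agent.Lib.Sporadic.LyInv.DenseN

set_option autoImplicit false
set_option maxRecDepth 20000
set_option Elab.async false

/-! Two elements of the centraliser and their projection (owner: helper25). -/

namespace CfsgLib.Sporadic.LyThree

open CfsgLib.Sporadic.LyRep (maskLit)
open CfsgLib.Sporadic.LyLower (denseOK dword rdot)
open CfsgLib.Sporadic.LyInv (eqN')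

theorem cenDense0 : denseOK (cenW.getD 0 []) cenRows0 = true := by decide +kernel

theorem cenDense1 : denseOK (cenW.getD 1 []) cenRows1 = true := by decide +kernel

theorem cenDense2 : denseOK (cenW.getD 2 []) cenRows2 = true := by decide +kernel

theorem cen_comm : eqN' cenD 3 [2, 0] [0, 2] = true ∧ eqN' cenD 3 [2, 1] [1, 2] = true ∧
    eqN' cenD 3 [2, 2, 2] [] = true := by decide +kernel

/-- The row of the idempotent. -/
noncomputable def idemRow (k : ℕ) : ℕ :=
  LyRep.red maskLit (2 * (Nat.shiftLeft 1 (24 * k) + dword cenD [2] (Nat.shiftLeft 1 (24 * k)) +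
    dword cenD [2, 2] (Nat.shiftLeft 1 (24 * k))))

theorem proj_shape : repOK 21 111 projB = true ∧ repOK 111 21 projC = true := by decide +kernel

theorem proj_left : ∀ k : Fin 21, LyRep.red mask21 (rdot projC (projB.getD k.val (0, 0)).1) = Nat.shiftLeft 1 (24 * k.val) := by
  decide +kernel

theorem proj_idem : ∀ k : Fin 111, LyRep.red maskLit (rdot projB (projC.getD k.val (0, 0)).1) = idemRow k.val := by
  decide +kernel

theorem proj_image : ∀ j : Fin 2, ∀ k : Fin 21,
    LyRep.red mask21 (rdot projC (dword cenD [j.val] (projB.getD k.val (0, 0)).1)) =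
      ((([gen0_0, gen0_1] : List (List (ℕ × ℕ))).getD j.val []).getD k.val (0, 0)).1 := by
  decide +kernel

theorem base_gens : repOK 21 21 gen0_0 = true ∧ repOK 21 21 gen0_1 = true ∧ repOK 21 21 inv0_0 = true ∧
    repOK 21 21 inv0_1 = true ∧
    (∀ k : Fin 21, LyRep.red mask21 (rdot inv0_0 (gen0_0.getD k.val (0, 0)).1) = Nat.shiftLeft 1 (24 * k.val)) ∧
    (∀ k : Fin 21, LyRep.red mask21 (rdot inv0_1 (gen0_1.getD k.val (0, 0)).1) = Nat.shiftLeft 1 (24 * k.val)) := by
  decide +kernel

theorem base_noncomm : ∃ k : Fin 21,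
    rword [gen0_0, gen0_1] [inv0_0, inv0_1] [(0, true), (1, true)] (Nat.shiftLeft 1 (24 * k.val)) ≠
      rword [gen0_0, gen0_1] [inv0_0, inv0_1] [(1, true), (0, true)] (Nat.shiftLeft 1 (24 * k.val)) := by
  decide +kernel

end CfsgLib.Sporadic.LyThree
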