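import Cfsg.Agent.Lib.Sporadic.LyLower.Cert
import Cfsg.Agent.Lib.Schur.CertVectors
import Cfsg.Agent.Lib.Sporadic.ChainCertificate

/-!
# Matrices over five elements given by packed rows, and words in them (owner: helper25)
-/

set_option autoImplicit false
set_option maxRecDepth 20000

namespace CfsgLib.Sporadic.LyThree

open CfsgLib.Sporadic CfsgLib.Schur.Cert
open CfsgLib.Sporadic.LyRep (Mat strict strict_eq packF packF_inj red_packF maskN)
open CfsgLib.Sporadic.LyLower (rdot rdot_ofFn packF_slot packF_sum_cols)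
open scoped Matrix

/-- The low bits of 21 slots. -/
def mask21 : ℕ := 0x3ff0003ff0003ff0003ff0003ff0003ff0003ff0003ff0003ff0003ff0003ff0003ff0003ff0003ff0003ff0003ff0003ff0003ff0003ff0003ff0003ff

theorem mask21_eq : mask21 = maskN 21 := by decide +kernel

/-- A row vector packed. -/
def encR {n : ℕ} (v : Fin n → ZMod 5) : ℕ := packF n fun j => (v j).val

/-- The rows with their shifts present a matrix. -/
def RepR {m n : ℕ} (C : List (ℕ × ℕ)) (A : Matrix (Fin m) (Fin n) (ZMod 5)) : Prop :=
  C = List.ofFn fun k : Fin m => (encR (A k), 24 * k.val)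

/-- The matrix read off packed rows. -/
def matR (m n : ℕ) (C : List (ℕ × ℕ)) : Matrix (Fin m) (Fin n) (ZMod 5) :=
  Matrix.of fun k j => ((Nat.land (Nat.shiftRight (C.getD k.val (0, 0)).1 (24 * j.val)) 16777215 : ℕ) : ZMod 5)

/-- The rows are in normal form. -/
def repOK (m n : ℕ) (C : List (ℕ × ℕ)) : Bool :=
  decide (C = List.ofFn fun k : Fin m => (encR (matR m n C k), 24 * k.val))

theorem repOK_sound {m n : ℕ} {C : List (ℕ × ℕ)} (h : repOK m n C = true) : RepR C (matR m n C) := by
  simp only [repOK, decide_eq_true_eq] at h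
  exact h

theorem encR_injective {n : ℕ} : Function.Injective (encR (n := n)) := fun v w h => funext fun j =>
  ZMod.val_injective 5 (congrFun (packF_inj n _ _ (fun k => (ZMod.val_lt (v k)).trans_le (by norm_num))
    (fun k => (ZMod.val_lt (w k)).trans_le (by norm_num)) h) j)

theorem rowMul_eq {m n mask : ℕ} (hm : mask = maskN n) (hmn : m * 16 ≤ 1900) {C : List (ℕ × ℕ)}
    {A : Matrix (Fin m) (Fin n) (ZMod 5)} (hC : RepR C A) (v : Fin m → ZMod 5) :
    LyRep.red mask (rdot C (encR v)) = encR (v ᵥ* A) := by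
  subst hC hm
  rw [rdot_ofFn]
  have hs : ∀ k : Fin m, Nat.land (Nat.shiftRight (encR v) (24 * k.val)) 16777215 = (v k).val := by
    intro k
    show (encR v >>> (24 * k.val)) &&& (2 ^ 24 - 1) = _
    rw [Nat.and_two_pow_sub_one_eq_mod, Nat.shiftRight_eq_div_pow]
    exact packF_slot m _ k fun i => (ZMod.val_lt _).trans_le (by norm_num)
  dsimp only
  simp only [hs]
  simp only [encR]
  rw [packF_sum_cols, red_packF _ fun j => ?_]
  · refine congrArg (packF n) (funext fun j => ?_)
    rw [← ZMod.val_natCast, Nat.cast_sum]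
    refine congrArg ZMod.val (Finset.sum_congr rfl fun k _ => ?_)
    rw [Nat.cast_mul, ZMod.natCast_zmod_val, ZMod.natCast_zmod_val, mul_comm]
  · refine le_trans (Finset.sum_le_sum (g := fun _ => 4 * 4) fun k _ => ?_) (by simpa using hmn)
    exact Nat.mul_le_mul (Nat.le_of_lt_succ (ZMod.val_lt _)) (Nat.le_of_lt_succ (ZMod.val_lt _))

/-- The units of degree 21. -/
abbrev Gm : Type := (Mat 21)ˣ

theorem unit21_enc : ∀ k : Fin 21, encR (Pi.single k 1 : Fin 21 → ZMod 5) = Nat.shiftLeft 1 (24 * k.val) := by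
  decide +kernel

theorem ext_rows {n : ℕ} {A B : Matrix (Fin n) (Fin n) (ZMod 5)}
    (h : ∀ k, encR (Pi.single k 1 ᵥ* A) = encR (Pi.single k 1 ᵥ* B)) : A = B := by
  refine Matrix.ext fun i j => ?_
  have h1 := congrFun (encR_injective (h i)) j
  simpa [Matrix.single_one_vecMul] using h1

/-- A packed row times a word in packed generators and inverses. -/
noncomputable def rword (P Pi : List (List (ℕ × ℕ))) (w : Word) : ℕ → ℕ :=
  List.rec (motive := fun _ => ℕ → ℕ) (fun c => c)
    (fun l _ ih c => strict (LyRep.red mask21 (rdot (bif l.2 then P.getD l.1 [] else Pi.getD l.1 []) c)) ih) w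

/-- The rows present generators and their inverses. -/
def RepGens (P Pi : List (List (ℕ × ℕ))) (q : ℕ → Gm) : Prop :=
  ∀ j < P.length, RepR (P.getD j []) (q j : Mat 21) ∧ RepR (Pi.getD j []) (((q j)⁻¹ : Gm) : Mat 21)

theorem rword_eq {P Pi : List (List (ℕ × ℕ))} {q : ℕ → Gm} (h : RepGens P Pi q) :
    ∀ {w : Word}, (∀ l ∈ w, l.1 < P.length) → ∀ v : Fin 21 → ZMod 5,
      rword P Pi w (encR v) = encR (v ᵥ* ((wval q w : Gm) : Mat 21))
  | [], _, v => by simp [rword, wval]
  | l :: w, hl, v => by
    obtain ⟨j, s⟩ := l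
    show strict (LyRep.red mask21 (rdot (bif s then P.getD j [] else Pi.getD j []) (encR v))) (rword P Pi w) = _
    have hj := h j (hl (j, s) List.mem_cons_self)
    have hs : RepR (bif s then P.getD j [] else Pi.getD j []) ((lett q (j, s) : Gm) : Mat 21) := by
      cases s
      · exact hj.2
      · exact hj.1
    rw [strict_eq, rowMul_eq mask21_eq (by norm_num) hs, rword_eq h fun x hx => hl x (List.mem_cons_of_mem _ hx),
      Matrix.vecMul_vecMul, wval_cons, Units.val_mul]

/-- A word with the images of unit rows given. -/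
noncomputable def wordOK (P Pi : List (List (ℕ × ℕ))) (w : Word) (f : ℕ → ℕ) : Bool :=
  (w.all fun l => Nat.blt l.1 P.length) &&
    (List.range 21).all fun k => Nat.beq (rword P Pi w (Nat.shiftLeft 1 (24 * k))) (f k)

/-- A word of value one. -/
noncomputable def relOK (P Pi : List (List (ℕ × ℕ))) (w : Word) : Bool :=
  wordOK P Pi w fun k => Nat.shiftLeft 1 (24 * k)

/-- A generator of the next level with its inverse. -/
noncomputable def defOK (P Pi : List (List (ℕ × ℕ))) (w : Word) (C Ci : List (ℕ × ℕ)) : Bool :=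
  repOK 21 21 C && (repOK 21 21 Ci && (wordOK P Pi w (fun k => (C.getD k (0, 0)).1) &&
    (List.range 21).all fun k =>
      Nat.beq (LyRep.red mask21 (rdot Ci (C.getD k (0, 0)).1)) (Nat.shiftLeft 1 (24 * k))))

theorem relOK_sound {P Pi : List (List (ℕ × ℕ))} {q : ℕ → Gm} (h : RepGens P Pi q) {w : Word}
    (hw : relOK P Pi w = true) : wval q w = 1 := by
  simp only [relOK, wordOK, Bool.and_eq_true, List.all_eq_true, List.mem_range, Nat.blt_eq, Nat.beq_eq] at hw
  refine Units.ext (ext_rows fun k => ?_)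
  rw [← rword_eq h hw.1, unit21_enc, hw.2 k.val k.isLt, ← unit21_enc, Units.val_one, Matrix.vecMul_one]

theorem row_getD {m n : ℕ} {C : List (ℕ × ℕ)} {A : Matrix (Fin m) (Fin n) (ZMod 5)} (hC : RepR C A) (k : Fin m) :
    (C.getD k.val (0, 0)).1 = encR (A k) := by
  subst hC
  rw [List.getD_eq_getElem _ _ (by simp [k.isLt]), List.getElem_ofFn]

theorem defOK_sound {P Pi : List (List (ℕ × ℕ))} {q : ℕ → Gm} (h : RepGens P Pi q) {w : Word}
    {C Ci : List (ℕ × ℕ)} (hd : defOK P Pi w C Ci = true) :
    RepR C ((wval q w : Gm) : Mat 21) ∧ RepR Ci (((wval q w)⁻¹ : Gm) : Mat 21) := by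
  simp only [defOK, wordOK, Bool.and_eq_true, List.all_eq_true, List.mem_range, Nat.blt_eq, Nat.beq_eq] at hd
  obtain ⟨hC, hCi, ⟨hw, himg⟩, hinv⟩ := hd
  have e : ((wval q w : Gm) : Mat 21) = matR 21 21 C := ext_rows fun k => by
    rw [← rword_eq h hw, unit21_enc, himg k.val k.isLt, row_getD (repOK_sound hC) k, Matrix.single_one_vecMul]
    rfl
  refine ⟨e ▸ repOK_sound hC, ?_⟩
  have e2 : matR 21 21 C * matR 21 21 Ci = 1 := ext_rows fun k => by
    have h1 := hinv k.val k.isLt
    rw [row_getD (repOK_sound hC) k, rowMul_eq mask21_eq (by norm_num) (repOK_sound hCi), ← unit21_enc] at h1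
    rw [← Matrix.vecMul_vecMul, Matrix.single_one_vecMul, Matrix.vecMul_one]
    exact h1
  have e3 : (((wval q w)⁻¹ : Gm) : Mat 21) = matR 21 21 Ci := by
    rw [← e] at e2
    exact Units.inv_eq_of_mul_eq_one_right e2
  exact e3 ▸ repOK_sound hCi

/-- The relations of a chain hold in packed generators. -/
noncomputable def levelsOK : List ChainLevel → List (List (List (ℕ × ℕ)) × List (List (ℕ × ℕ))) → Bool
  | [], _ => true
  | l :: ls, d =>
    ((l.table.rels.filter fun r => r.rhs.isEmpty).all fun r => relOK (d.headD ([], [])).1 (d.headD ([], [])).2 r.word) &&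
    ((d.tail.headD ([], [])).1.length == l.defs.length &&
      (List.range l.defs.length).all fun j => defOK (d.headD ([], [])).1 (d.headD ([], [])).2 (l.defs.getD j [])
        ((d.tail.headD ([], [])).1.getD j []) ((d.tail.headD ([], [])).2.getD j [])) &&
    levelsOK ls d.tail

theorem wval_congr {G : Type*} [Group G] {a b : ℕ → G} : ∀ {w : Word}, (∀ l ∈ w, a l.1 = b l.1) → wval a w = wval b w
  | [], _ => rfl
  | l :: w, h => by
    rw [wval_cons, wval_cons, wval_congr fun x hx => h x (List.mem_cons_of_mem _ hx), lett, lett,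
      h l List.mem_cons_self]

theorem levels_sound : ∀ (ls : List ChainLevel) (d : List (List (List (ℕ × ℕ)) × List (List (ℕ × ℕ))))
    (a : ℕ → Gm) (h : List Word), levelsOK ls d = true →
    RepGens (d.headD ([], [])).1 (d.headD ([], [])).2 (fun j => wval a (h.getD j [])) →
    ∀ w ∈ chainRels ls h, wval a w = 1
  | [], _, _, _, _, _, w, hw => by simp [chainRels] at hw
  | l :: ls, d, a, h, hok, hrep, w, hw => by
    simp only [levelsOK, Bool.and_eq_true, List.all_eq_true, List.mem_range, beq_iff_eq] at hok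
    obtain ⟨⟨hrels, hlen, hdefs⟩, hnext⟩ := hok
    simp only [chainRels, List.mem_append, List.mem_map] at hw
    rcases hw with hw | ⟨r, hr, rfl⟩
    · refine levels_sound ls d.tail a (nextWords h l) hnext (fun j hj => ?_) w hw
      rw [hlen] at hj
      have e : wval a ((nextWords h l).getD j []) = wval (fun j => wval a (h.getD j [])) (l.defs.getD j []) := by
        rw [nextWords, List.getD_eq_getElem _ _ (by simpa using hj), List.getElem_map, wval_wsub,
          List.getD_eq_getElem _ _ hj]
      dsimp only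
      rw [e]
      exact defOK_sound hrep (hdefs j hj)
    · rw [wval_wsub]
      exact relOK_sound hrep (hrels r hr)

end CfsgLib.Sporadic.LyThree
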