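import Cfsg.Agent.Lib.Sporadic.LyInv.ElDefs

/-!
# Counting elements of order three with a given trace in a listed subgroup (owner: helper25)
-/

set_option autoImplicit false
set_option maxRecDepth 20000

namespace CfsgLib.Sporadic.LyThree

open CfsgLib.Sporadic CfsgLib.Sporadic.LyGTwo CfsgLib.Sporadic.LyCoset
open CfsgLib.Sporadic.LyRep (strict strict_eq)
open CfsgLib.Sporadic.LyInv (rowE rowsE matchE Mg Mg_row Mg_mul_row Pres vact_pres oneE pres_oneE)
open CfsgLib.Recog.SporBound (Q)

/-- A diagonal entry. -/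
noncomputable def diagE (p i : ℕ) : ℕ := Nat.land (Nat.shiftRight (rowE p i) (24 * i)) 16777215

/-- An entry has cube one and trace three. -/
noncomputable def isX3E (p : ℕ) : Bool :=
  Nat.beq ((diagE p 0 + diagE p 1 + diagE p 2 + diagE p 3 + diagE p 4 + diagE p 5 + diagE p 6) % 5) 3 &&
    matchE (fun i => vlin (rowsE p) (vlin (rowsE p) (rowE p i))) oneE

/-- The number of such entries. -/
noncomputable def countX (T : Q ℕ) (n : ℕ) : ℕ := ((List.range n).filter fun i => isX3E (T.get i)).length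

theorem countX_le {T : Q ℕ} {n : ℕ} (S : Finset ℕ) (hS : ∀ i ∈ S, i < n ∧ isX3E (T.get i) = true) :
    S.card ≤ countX T n := by
  have h : S ⊆ ((List.range n).filter fun i => isX3E (T.get i)).toFinset := fun i hi => by
    simp [hS i hi]
  exact (Finset.card_le_card h).trans (List.toFinset_card_le _)

theorem diagE_eq {p : ℕ} {g : P4} (h : Pres p g) (i : Fin 7) : (diagE p i.val : ZMod 5) = Mg g i i := by
  rw [diagE, h i]
  show (((encV (Mg g i) >>> (24 * i.val)) &&& (2 ^ 24 - 1) : ℕ) : ZMod 5) = _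
  rw [Nat.and_two_pow_sub_one_eq_mod, Nat.shiftRight_eq_div_pow, encV,
    slot_packF 7 _ i fun j => (ZMod.val_lt _).trans_le (by norm_num), ZMod.natCast_zmod_val]

theorem isX3E_of {p : ℕ} {g : P4} (h : Pres p g) (h3 : g * g * g = 1) (ht : Matrix.trace (Mg g) = 3) :
    isX3E p = true := by
  have hm : ∀ {f : ℕ → ℕ} {q : ℕ}, (∀ i : Fin 7, f i.val = rowE q i.val) → matchE f q = true := fun {f q} hf => by
    simp only [matchE, Bool.and_eq_true, Nat.beq_eq]
    exact ⟨hf 0, hf 1, hf 2, hf 3, hf 4, hf 5, hf 6⟩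
  simp only [isX3E, Bool.and_eq_true, Nat.beq_eq]
  refine ⟨?_, hm fun i => ?_⟩
  · set N := diagE p 0 + diagE p 1 + diagE p 2 + diagE p 3 + diagE p 4 + diagE p 5 + diagE p 6
    have e : ((N : ℕ) : ZMod 5) = ((3 : ℕ) : ZMod 5) := by
      rw [Nat.cast_ofNat, ← ht, Matrix.trace]
      simp only [N, Nat.cast_add, Fin.sum_univ_seven, Matrix.diag]
      simp only [← diagE_eq h]
      rfl
    exact (ZMod.natCast_eq_natCast_iff' _ _ _).1 e
  · show vlin (rowsE p) (vlin (rowsE p) (rowE p i.val)) = _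
    rw [h i, vact_pres h, vact_pres h, ← Mg_mul_row, ← Mg_mul_row, h3]
    exact (pres_oneE i).symm

end CfsgLib.Sporadic.LyThree
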